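import Cfsg.Agent.Lib.LieFusion.SympElements
import Mathlib.FieldTheory.Finite.Basic

/-!
The fusion system of `PSp_{2m}` at the defining characteristic is simple.
-/
set_option autoImplicit false

namespace CfsgLib.LieFusion.Symp

open Matrix CfsgLib.AutPSL Cfsg Cfsg.FusionSystem CfsgLib.FusionQuot

variable {m : ℕ} {F : Type*} [Field F]

/-- The symmetric matrices `B` whose root element lies in a subgroup, as an additive group. -/
def traceIn (K : Subgroup (Spg m F)) : AddSubgroup (Matrix (Fin m) (Fin m) F) where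
  carrier := {B | ∃ hB : Bᵀ = B, unip B hB ∈ K}
  zero_mem' := ⟨transpose_zero, by rw [unip_zero]; exact K.one_mem⟩
  add_mem' := by
    rintro B B' ⟨hB, h⟩ ⟨hB', h'⟩
    exact ⟨by rw [transpose_add, hB, hB'], unip_mul hB hB' ▸ K.mul_mem h h'⟩
  neg_mem' := by
    rintro B ⟨hB, h⟩
    exact ⟨by rw [transpose_neg, hB], unip_inv hB ▸ K.inv_mem h⟩

theorem mem_traceIn {K : Subgroup (Spg m F)} {B : Matrix (Fin m) (Fin m) F} (hB : Bᵀ = B) :
    B ∈ traceIn K ↔ unip B hB ∈ K := ⟨fun ⟨_, h⟩ => h, fun h => ⟨hB, h⟩⟩

theorem lsl_conj {A : SLg m F} {B : Matrix (Fin m) (Fin m) F} (hB : Bᵀ = B) :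
    lsl A * unip B hB * (lsl A)⁻¹ = unip (A.1 * B * A.1ᵀ)
      (by rw [transpose_mul, transpose_mul, transpose_transpose, hB, Matrix.mul_assoc]) :=
  levi_conj (A := A.1) (D := (A⁻¹).1ᵀ)
    (by rw [transpose_transpose, ← LieFusion.sl_mul, mul_inv_cancel, LieFusion.sl_one]) hB

theorem diagonal_conj_single (d : Fin m → F) (i j : Fin m) (x : F) :
    diagonal d * single i j x * (diagonal d)ᵀ = single i j (d i * x * d j) := by
  ext r l
  simp only [diagonal_transpose, mul_diagonal, diagonal_mul, single_apply]
  split_ifs with h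
  · obtain ⟨rfl, rfl⟩ := h; rfl
  · simp

theorem weyl_prod_coe (j : Fin m) {y : F} (hy : y ≠ 0) :
    (unip (single j j y) (single_transpose j y) * lower (single j j (-y⁻¹)) (single_transpose j _) *
      unip (single j j y) (single_transpose j y)).1 =
      fromBlocks (1 - single j j 1) (single j j y) (single j j (-y⁻¹)) (1 - single j j 1) := by
  simp only [sp_mul, unip_coe, lower_coe, fromBlocks_multiply, fromBlocks_inj, Matrix.mul_one, Matrix.one_mul,
    Matrix.mul_zero, Matrix.zero_mul, add_zero, zero_add, single_mul_single_same, Matrix.add_mul,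
    mul_neg, neg_mul, mul_inv_cancel₀ hy, inv_mul_cancel₀ hy, ← single_neg, neg_neg, one_mul, true_and]
  refine ⟨?_, ?_, ?_⟩
  · simp [sub_eq_add_neg, single_neg]
  · abel
  · simp [sub_eq_add_neg, single_neg, add_comm]

theorem tor_mulSingle_eq (j : Fin m) (a : Fˣ) :
    tor (Pi.mulSingle j a) =
      unip (single j j (a : F)) (single_transpose j _) * lower (single j j (-(a : F)⁻¹)) (single_transpose j _) *
        unip (single j j (a : F)) (single_transpose j _) *
      (unip (single j j (-1 : F)) (single_transpose j _) * lower (single j j (-(-1 : F)⁻¹)) (single_transpose j _) *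
        unip (single j j (-1 : F)) (single_transpose j _)) := by
  have hd : ∀ b : Fˣ, (diagonal fun k => ((Pi.mulSingle j b : Fin m → Fˣ) k : F)) =
      1 - single j j 1 + single j j (b : F) := by
    intro b
    ext r l
    rcases eq_or_ne r l with rfl | hrl
    · rcases eq_or_ne r j with rfl | hr
      · simp [single_apply]
      · simp [single_apply, Pi.mulSingle_eq_of_ne hr, Ne.symm hr]
    · have hns : ¬ (j = r ∧ j = l) := fun h => hrl (h.1.symm.trans h.2)
      simp [single_apply, diagonal_apply_ne _ hrl, Matrix.one_apply_ne hrl, hns]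
  have hinv : (diagonal fun k => (((Pi.mulSingle j a : Fin m → Fˣ) k)⁻¹ : Fˣ).1) =
      (diagonal fun k => ((Pi.mulSingle j a⁻¹ : Fin m → Fˣ) k : F)) := by
    congr 1
    funext k
    rcases eq_or_ne k j with rfl | hk <;> simp [*]
  refine Subtype.ext ?_
  rw [sp_mul, weyl_prod_coe j a.ne_zero, weyl_prod_coe j (neg_ne_zero.2 one_ne_zero), tor_coe, hinv, hd, hd,
    fromBlocks_multiply]
  simp only [Matrix.sub_mul, Matrix.mul_sub, Matrix.one_mul, Matrix.mul_one, single_mul_single_same,
    inv_neg, inv_one, neg_neg, mul_one, one_mul, mul_neg, neg_mul, Matrix.neg_mul, Matrix.mul_neg, ← single_neg,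
    fromBlocks_inj, Units.val_inv_eq_inv_val]
  refine ⟨?_, ?_, ?_, ?_⟩ <;> abel

theorem tor_pair_eq {i j : Fin m} (hij : i ≠ j) (a : Fˣ) :
    tor (Pi.mulSingle i a * Pi.mulSingle j a⁻¹) = lsl (SpecialLinearGroup.diag2n hij (a : F) a.ne_zero) := by
  classical
  have h1 : (SpecialLinearGroup.diag2n hij (a : F) a.ne_zero)⁻¹ =
      SpecialLinearGroup.diag2n hij ((a⁻¹ : Fˣ) : F) (a⁻¹).ne_zero := by
    refine inv_eq_of_mul_eq_one_right (Subtype.ext ?_)
    rw [LieFusion.sl_mul, LieFusion.sl_one, SpecialLinearGroup.diag2n_coe, SpecialLinearGroup.diag2n_coe,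
      diagonal_mul_diagonal, ← diagonal_one]
    congr 1
    funext k
    split_ifs <;> simp
  refine Subtype.ext ?_
  rw [tor_coe, lsl_coe, h1, SpecialLinearGroup.diag2n_coe, SpecialLinearGroup.diag2n_coe, diagonal_transpose,
    fromBlocks_inj]
  refine ⟨?_, rfl, rfl, ?_⟩ <;> congr 1 <;> funext k <;>
    rcases eq_or_ne k i with rfl | hi <;> simp [Pi.mulSingle_apply, hij, hij.symm, *] <;>
    rcases eq_or_ne k j with rfl | hi' <;> simp [*]

variable [Fintype F] {p : ℕ} [Fact p.Prime] [CharP F p]

omit [Fintype F] in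
theorem squares_span [Finite F] {V : AddSubgroup F} {c : F} (hc : c ≠ 0) (h : ∀ x : F, c * x ^ 2 ∈ V) (y : F) :
    y ∈ V := by
  by_cases h2 : ringChar F = 2
  · obtain ⟨r, hr⟩ := FiniteField.isSquare_of_char_two h2 (y / c)
    have := h r
    rwa [pow_two, ← hr, mul_div_cancel₀ _ hc] at this
  · have h2' : (2 : F) ≠ 0 := Ring.two_ne_zero h2
    have := V.sub_mem (V.sub_mem (h (y / (2 * c) + 1)) (h (y / (2 * c)))) (h 1)
    rwa [show c * (y / (2 * c) + 1) ^ 2 - c * (y / (2 * c)) ^ 2 - c * 1 ^ 2 = y by field_simp; ring] at this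

/-- A strongly closed subgroup contains every root element once it contains a nontrivial central one. -/
theorem le_of_invariant (hm : 2 ≤ m) (hex : m = 2 → 3 ≤ Fintype.card F) {K : Subgroup (Spg m F)}
    (hK : ∀ g x : Spg m F, x ∈ K → g * x * g⁻¹ ∈ upper m F → g * x * g⁻¹ ∈ K)
    {B₀ : Matrix (Fin m) (Fin m) F} (hB₀ : B₀ᵀ = B₀) (hne : B₀ ≠ 0) (hmem : unip B₀ hB₀ ∈ K)
    (hfix : ∀ A ∈ uniTri m F, lsl A * unip B₀ hB₀ * (lsl A)⁻¹ = unip B₀ hB₀) : upper m F ≤ K := by
  classical
  set W := traceIn K with hW
  have hlev : ∀ (A D : Matrix (Fin m) (Fin m) F) (h : A * Dᵀ = 1) (B : Matrix (Fin m) (Fin m) F),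
      B ∈ W → A * B * Aᵀ ∈ W := by
    rintro A D h B ⟨hB, hx⟩
    refine ⟨?_, ?_⟩
    · rw [transpose_mul, transpose_mul, transpose_transpose, hB, Matrix.mul_assoc]
    · rw [← levi_conj h hB]
      refine hK _ _ hx ?_
      rw [levi_conj h hB]
      exact unip_mem_upper _
  have htr : ∀ {i j : Fin m} (_ : i ≠ j) (c : F) (B : Matrix (Fin m) (Fin m) F), B ∈ W →
      (1 + single i j c) * B * (1 + single i j c)ᵀ ∈ W := fun {i j} hij c B hB =>
    hlev _ _ (by
      rw [transpose_transpose, ← LieFusion.sl_tr hij c]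
      show _ = (1 : Matrix (Fin m) (Fin m) F)
      rw [← LieFusion.sl_mul, mul_inv_cancel, LieFusion.sl_one]) B hB
  let o : Fin m := ⟨0, by omega⟩
  let e : Fin m := ⟨1, by omega⟩
  have hoe : o ≠ e := fun h => absurd (congrArg Fin.val h) zero_ne_one
  have hole : ∀ i : Fin m, o ≤ i := fun i => Nat.zero_le (i : ℕ)
  -- the shape of a central element
  have hshape : ∀ j k : Fin m, ∀ i : Fin m, i < j → k ≠ i → B₀ j k = 0 := by
    intro j k i hij hki
    have hB : (1 + single i j (1 : F)) * B₀ * (1 + single i j (1 : F))ᵀ = B₀ := by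
      have h1 := hfix _ (transvection_mem_uniTri hij 1)
      rw [lsl_conj] at h1
      have h2 : (unip _ _ : Spg m F).1.toBlocks₁₂ = (unip B₀ hB₀).1.toBlocks₁₂ := congrArg (fun g : Spg m F =>
        g.1.toBlocks₁₂) h1
      rw [unip_coe, unip_coe, toBlocks_fromBlocks₁₂, toBlocks_fromBlocks₁₂, LieFusion.sl_tr] at h2
      exact h2
    have h1 := congrFun (congrFun hB i) k
    rw [transpose_add, transpose_one, transpose_single, Matrix.add_mul, Matrix.one_mul, Matrix.mul_add,
      Matrix.mul_one, Matrix.add_apply, Matrix.add_apply, single_mul_apply_same, one_mul,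
      mul_single_apply_of_ne (hbj := hki)] at h1
    simpa using h1
  have hB₀eq : B₀ = single o o (B₀ o o) + hol o e (B₀ o e) := by
    have hsym : ∀ a b, B₀ a b = B₀ b a := fun a b => congrFun (congrFun hB₀ b) a
    have hz : ∀ a b : Fin m, a ≠ o → ¬ (a = e ∧ b = o) → B₀ a b = 0 := fun a b ha hab => by
      have hoa : o < a := lt_of_le_of_ne (hole a) (Ne.symm ha)
      by_cases hb : b = o
      · have hea : e < a := by
          refine lt_of_le_of_ne ?_ (fun h => hab ⟨h.symm, hb⟩)
          show 1 ≤ (a : ℕ)
          have : 0 < (a : ℕ) := hoa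
          omega
        exact hshape a b e hea (hb ▸ hoe)
      · exact hshape a b o hoa hb
    ext a b
    rw [hol]
    by_cases ha : a = o
    · subst ha
      by_cases hb : b = o
      · subst hb; simp [single_apply, hoe.symm]
      · by_cases hbe : b = e
        · subst hbe; simp [single_apply, hoe, hoe.symm]
        · rw [hsym, hz b o hb (fun h => hbe h.1)]
          simp [single_apply, Ne.symm hb, Ne.symm hbe]
    · by_cases hae : a = e ∧ b = o
      · obtain ⟨rfl, rfl⟩ := hae
        simp [single_apply, hoe, hoe.symm, hsym e o]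
      · rw [hz a b ha hae]
        simp only [Matrix.add_apply, single_apply]
        rw [if_neg (fun h => ha h.1.symm), if_neg (fun h => ha h.1.symm),
          if_neg (fun h => hae ⟨h.1.symm, h.2.symm⟩)]
        simp
  -- a short root element above a long one
  have hweyl : ∀ {i j : Fin m} (h : i < j), ∀ b : F, hol i j b ∈ W →
      lsl (SpecialLinearGroup.transvection h.ne (-b)) ∈ K := by
    intro i j hij b hb
    rw [← weyl_conj hij.ne b]
    refine hK _ _ ((mem_traceIn _).1 hb) ?_
    rw [weyl_conj hij.ne b]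
    exact lsl_mem_upper (transvection_mem_uniTri hij _)
  have hcorner : ∃ c : F, c ≠ 0 ∧ single o o c ∈ W := by
    have hmem' : B₀ ∈ W := ⟨hB₀, hmem⟩
    by_cases hb : B₀ o e = 0
    · refine ⟨B₀ o o, fun h0 => hne ?_, ?_⟩
      · rw [hB₀eq, hb, h0]; simp [hol]
      · rw [hB₀eq, hb] at hmem'
        simpa [hol] using hmem'
    obtain ⟨j, hj, b, hb0, hh⟩ : ∃ j, o < j ∧ ∃ b : F, b ≠ 0 ∧ hol o j b ∈ W := by
      set a := B₀ o o
      set b := B₀ o e
      by_cases hcard : 3 ≤ Fintype.card F
      · obtain ⟨t, ht0, ht1⟩ : ∃ t : F, t ≠ 0 ∧ t ≠ 1 := by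
          by_contra h
          push Not at h
          have hsub : (Finset.univ : Finset F) ⊆ {0, 1} := fun x _ => by
            rcases eq_or_ne x 0 with hx | hx
            · simp [hx]
            · simp [h x hx]
          have := (Finset.card_le_card hsub).trans Finset.card_le_two
          rw [Finset.card_univ] at this
          omega
        let d : Fin m → F := Function.update (1 : Fin m → F) e t
        have hd : ∀ i, d i ≠ 0 := fun i => by
          rcases eq_or_ne i e with rfl | hi <;> simp [d, *]
        have h1 := hlev (diagonal d) (diagonal fun i => (d i)⁻¹) (by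
          rw [diagonal_transpose, diagonal_mul_diagonal,
            show (fun i => d i * (d i)⁻¹) = fun _ => (1 : F) from funext fun i => mul_inv_cancel₀ (hd i),
            diagonal_one]) _ hmem'
        refine ⟨e, show (0 : ℕ) < 1 by omega, (t - 1) * b, mul_ne_zero (sub_ne_zero.2 ht1) hb, ?_⟩
        have h2 := W.sub_mem h1 hmem'
        have e2 : diagonal d * B₀ * (diagonal d)ᵀ - B₀ = hol o e ((t - 1) * b) := by
          conv_lhs => rw [hB₀eq]
          simp only [hol, Matrix.mul_add, Matrix.add_mul, diagonal_conj_single]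
          rw [show d o = 1 from Function.update_of_ne hoe _ _, show d e = t from Function.update_self _ _ _,
            show (t - 1) * b = t * b + -b by ring]
          simp only [one_mul, mul_one, mul_comm b t, single_add, ← single_neg]
          abel
        rwa [e2] at h2
      · have hm3 : 3 ≤ m := by
          by_contra h
          exact hcard (hex (by omega))
        let k : Fin m := ⟨2, hm3⟩
        have hke : k ≠ e := fun h => absurd (congrArg Fin.val h) (by show ¬ (2 : ℕ) = 1; omega)
        have hko : k ≠ o := fun h => absurd (congrArg Fin.val h) (by show ¬ (2 : ℕ) = 0; omega)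
        refine ⟨k, show (0 : ℕ) < 2 by omega, b, hb, ?_⟩
        have h2 := W.sub_mem (htr hke 1 _ hmem') hmem'
        have e2 : (1 + single k e (1 : F)) * B₀ * (1 + single k e (1 : F))ᵀ - B₀ = hol o k b := by
          rw [transpose_add, transpose_one, transpose_single]
          conv_lhs => rw [hB₀eq]
          simp only [hol, Matrix.mul_add, Matrix.add_mul, Matrix.mul_one, Matrix.one_mul, single_mul_single_same,
            single_mul_single_of_ne _ _ _ _ hoe.symm, single_mul_single_of_ne _ _ _ _ hoe, one_mul, mul_one,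
            add_zero, zero_add, Matrix.zero_mul]
          abel
        rwa [e2] at h2
    refine ⟨b * b, mul_ne_zero hb0 hb0, ?_⟩
    have hl := hweyl hj b hh
    set l := lsl (SpecialLinearGroup.transvection hj.ne (-b))
    set u : Spg m F := unip (single j j 1) (single_transpose j 1)
    have hu : u ∈ upper m F := unip_mem_upper _
    have hlu : l ∈ upper m F := lsl_mem_upper (transvection_mem_uniTri hj _)
    have h1 : u * l * u⁻¹ ∈ K := hK u l hl (mul_mem (mul_mem hu hlu) (inv_mem hu))
    have h2 : l * (u * l * u⁻¹)⁻¹ ∈ K := K.mul_mem hl (K.inv_mem h1)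
    have e1 : l * u * l⁻¹ = unip (hol o j (-b) + single o o (b * b) + single j j 1) (by
        simp [hol_transpose, single_transpose]) := by
      show lsl _ * unip _ _ * (lsl _)⁻¹ = _
      rw [lsl_conj]
      refine unip_congr ?_ _ _
      rw [LieFusion.sl_tr, levi_transvection_single hj.ne, neg_mul_neg]
    have e2 : l * (u * l * u⁻¹)⁻¹ = l * u * l⁻¹ * u⁻¹ := by group
    rw [e2, e1, unip_inv, unip_mul] at h2
    have h3 := W.add_mem ((mem_traceIn _).2 h2) hh
    have e3 : hol o j (-b) + single o o (b * b) + single j j 1 + -single j j 1 + hol o j b =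
        single o o (b * b) := by
      have : hol o j (-b) + hol o j b = 0 := by
        rw [hol, hol, add_add_add_comm, ← single_add, ← single_add, neg_add_cancel]; simp
      calc _ = (hol o j (-b) + hol o j b) + single o o (b * b) := by abel
        _ = _ := by rw [this, zero_add]
    rwa [e3] at h3
  obtain ⟨c, hc, hcW⟩ := hcorner
  have hoo : ∀ y : F, single o o y ∈ W := by
    intro y
    refine squares_span (V := W.comap (singleAddMonoidHom o o)) hc (fun x => ?_) y
    rcases eq_or_ne x 0 with rfl | hx
    · simp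
    let d : Fin m → F := Function.update (1 : Fin m → F) o x
    have hd : ∀ i, d i ≠ 0 := fun i => by
      rcases eq_or_ne i o with rfl | hi <;> simp [d, *]
    have h1 := hlev (diagonal d) (diagonal fun i => (d i)⁻¹) (by
      rw [diagonal_transpose, diagonal_mul_diagonal,
        show (fun i => d i * (d i)⁻¹) = fun _ => (1 : F) from funext fun i => mul_inv_cancel₀ (hd i),
        diagonal_one]) _ hcW
    rw [AddSubgroup.mem_comap]
    have e2 : diagonal d * single o o c * (diagonal d)ᵀ = single o o (c * x ^ 2) := by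
      rw [diagonal_conj_single, show d o = x from Function.update_self _ _ _]
      congr 1
      ring
    rw [e2] at h1
    exact h1
  have hii : ∀ (i : Fin m) (y : F), single i i y ∈ W := by
    intro i y
    rcases eq_or_ne i o with rfl | hi
    · exact hoo y
    have h2 := htr (Ne.symm hi) (-1) _ (htr hi 1 _ (hoo y))
    rw [transvection_conj_single hi, transpose_add, transpose_one, transpose_single] at h2
    simp only [hol, Matrix.mul_add, Matrix.add_mul, Matrix.mul_one, Matrix.one_mul, single_mul_single_same,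
      single_mul_single_of_ne _ _ _ _ hi, single_mul_single_of_ne _ _ _ _ hi.symm, one_mul, mul_one, mul_neg,
      neg_mul, neg_neg, add_zero, zero_add, Matrix.zero_mul, ← single_neg] at h2
    convert h2 using 1
    abel
  have hhol : ∀ (i j : Fin m), i ≠ j → ∀ y : F, hol i j y ∈ W := by
    intro i j hij y
    have h1 := W.sub_mem (W.sub_mem (htr hij 1 _ (hii j y)) (hii j y)) (hii i (1 * 1 * y))
    rw [transvection_conj_single hij, one_mul] at h1
    convert h1 using 1
    simp
  have hsym : ∀ (B : Matrix (Fin m) (Fin m) F) (hB : Bᵀ = B), unip B hB ∈ K := by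
    intro B hB
    refine (mem_traceIn hB).1 ?_
    let ψ : Matrix (Fin m) (Fin m) F →+ Matrix (Fin m) (Fin m) F :=
      AddMonoidHom.id _ + (Matrix.transposeAddEquiv (Fin m) (Fin m) F).toAddMonoidHom
    have hψ : ∀ M, ψ M ∈ W := fun M => by
      have hM : M ∈ W.comap ψ := by
        rw [matrix_eq_sum_single M]
        refine AddSubgroup.sum_mem _ fun i _ => AddSubgroup.sum_mem _ fun j _ => ?_
        show single i j (M i j) + (single i j (M i j))ᵀ ∈ W
        rw [transpose_single]
        rcases eq_or_ne i j with rfl | hij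
        · exact W.add_mem (hii _ _) (hii _ _)
        · exact hhol i j hij _
      exact hM
    let M : Matrix (Fin m) (Fin m) F := Matrix.of fun i j => if i < j then B i j else 0
    have e : B = (∑ i, single i i (B i i)) + ψ M := by
      ext a b
      show B a b = (∑ i, single i i (B i i)) a b + (M a b + M b a)
      rw [Matrix.sum_apply]
      simp only [M, Matrix.of_apply, single_apply]
      rcases lt_trichotomy a b with h | rfl | h
      · rw [Finset.sum_eq_zero (fun i _ => if_neg (fun hh => h.ne (hh.1.symm.trans hh.2))), if_pos h,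
          if_neg (not_lt.2 h.le), zero_add, add_zero]
      · rw [Finset.sum_eq_single a (fun i _ hi => if_neg (fun hh => hi hh.1)) (by simp), if_pos ⟨rfl, rfl⟩,
          if_neg (lt_irrefl a), add_zero, add_zero]
      · rw [Finset.sum_eq_zero (fun i _ => if_neg (fun hh => h.ne' (hh.1.symm.trans hh.2))), if_pos h,
          if_neg (not_lt.2 h.le), zero_add, zero_add]
        exact congrFun (congrFun hB b) a
    rw [e]
    exact W.add_mem (W.sum_mem fun i _ => hii i _) (hψ M)
  rintro _ ⟨B, hB, A, hA, rfl⟩
  refine K.mul_mem (hsym B hB) ?_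
  have hle : uniTri m F ≤ K.comap lsl := by
    refine uniTri_le_closure.trans ((Subgroup.closure_le _).2 ?_)
    rintro _ ⟨i, j, hij, x, rfl⟩
    have := hweyl hij (-x) (hhol i j hij.ne _)
    rwa [neg_neg] at this
  exact hle hA

theorem psp_isSimple (p : ℕ) [Fact p.Prime] [CharP F p] (hm : 2 ≤ m) (hex : m = 2 → 3 ≤ Fintype.card F)
    (S : Sylow p (PSp m F)) : (groupFusionSystem (S : Subgroup (PSp m F))).IsSimple p := by
  classical
  obtain ⟨S₀, hS₀⟩ := exists_sylow (m := m) (F := F) (p := p)
  obtain ⟨c, hc⟩ := exists_conj_comp (QuotientGroup.mk' _) (upper m F) S₀ hS₀ S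
  set φ : Spg m F →* PSp m F := (MulAut.conj c).toMonoidHom.comp (QuotientGroup.mk' _) with hφ
  have hφs : Function.Surjective φ := fun x => by
    obtain ⟨A, hA⟩ := QuotientGroup.mk'_surjective _ ((MulAut.conj c).symm x)
    exact ⟨A, by rw [hφ, MonoidHom.comp_apply, hA]; exact MulEquiv.apply_symm_apply _ x⟩
  have hφeq : ∀ {A B : Spg m F}, A ∈ upper m F → (∃ k, B ^ p ^ k = 1) → φ A = φ B → A = B := by
    intro A B hA hB h
    obtain ⟨k1, hk1⟩ := upper_pow_eq_one p hA
    obtain ⟨k2, hk2⟩ := hB
    exact eq_of_mk_eq p (k := k1 + k2) (by rw [pow_add, pow_mul, hk1, one_pow])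
      (by rw [pow_add, mul_comm, pow_mul, hk2, one_pow]) ((MulAut.conj c).injective h)
  have hconjpow : ∀ {g u : Spg m F}, u ∈ upper m F → ∃ k, (g * u * g⁻¹) ^ p ^ k = 1 := fun {g u} hu => by
    obtain ⟨k, hk⟩ := upper_pow_eq_one p hu
    exact ⟨k, by rw [conj_pow, hk]; group⟩
  have hcomm : ∀ {g u : Spg m F}, u ∈ upper m F → φ g * φ u = φ u * φ g → g * u = u * g := by
    intro g u hu h
    have h2 : φ u = φ (g * u * g⁻¹) := by rw [map_mul, map_mul, map_inv, h, mul_inv_cancel_right]
    exact mul_inv_eq_iff_eq_mul.1 (hφeq hu (hconjpow hu) h2).symm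
  have hcenter : ∀ {a : Fˣ}, a * a = 1 → φ (tor fun _ : Fin m => a) = 1 := fun {a} ha => by
    show MulAut.conj c (QuotientGroup.mk (tor fun _ : Fin m => a) : PSp m F) = 1
    rw [(QuotientGroup.eq_one_iff _).2 (tor_const_mem_center ha), map_one]
  have hS : ∀ {u : Spg m F}, u ∈ upper m F → φ u ∈ (S : Subgroup (PSp m F)) := fun hu =>
    hc ▸ Subgroup.mem_map_of_mem φ hu
  let o : Fin m := ⟨0, by omega⟩
  let e : Fin m := ⟨1, by omega⟩
  have hoe : o ≠ e := fun h => absurd (congrArg Fin.val h) zero_ne_one
  have hole : ∀ i : Fin m, o ≤ i := fun i => Nat.zero_le (i : ℕ)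
  have hne : (S : Subgroup (PSp m F)) ≠ ⊥ := by
    intro hbot
    have h1 := hS (unip_mem_upper (single_transpose o (1 : F)))
    rw [hbot, Subgroup.mem_bot, ← map_one φ] at h1
    have h2 := hφeq (unip_mem_upper _) ⟨0, by simp⟩ h1
    have h3 := congrFun (congrFun (congrArg Subtype.val h2) (.inl o)) (.inr o)
    simp [unip_coe, sp_one, single_apply] at h3
  let R : Bool → Subgroup (PSp m F) := fun b =>
    if b then (siegelRad m F).map φ else (pointRad o).map φ
  have hsiegel : siegelRad m F ≤ upper m F := by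
    rintro _ ⟨B, hB, rfl⟩
    exact unip_mem_upper hB
  refine isSimple_of_family S hne (fun T hT => ?_) R (fun b => ?_) (fun b => ?_) ?_
  · rcases eq_or_ne T ⊥ with h | h
    · exact Or.inl h
    refine Or.inr (le_antisymm hT.1 ?_)
    obtain ⟨z, hz, hz1, hzc⟩ := exists_central_of_stronglyClosed (p := p) S.2 hT h
    obtain ⟨g, hg⟩ := hφs z
    obtain ⟨a, ha, B, hB, rfl⟩ := exists_of_comm_siegelRad (g := g) fun B hB =>
      hcomm (unip_mem_upper hB) (hg ▸ (hzc _ (hS (unip_mem_upper hB))).symm)
    rw [map_mul, hcenter ha, one_mul] at hg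
    subst hg
    have key := le_of_invariant hm hex (K := T.comap φ) (fun g x hx hgx => by
      rw [Subgroup.mem_comap, map_mul, map_mul, map_inv]
      refine conj_mem_of_stronglyClosed hT hx ?_
      rw [← map_inv, ← map_mul, ← map_mul]
      exact hS hgx) hB (fun h0 => hz1 (by rw [unip_congr h0 hB transpose_zero, unip_zero, map_one])) hz
      (fun A hA => by
        have h1 := hcomm (g := unip B hB) (lsl_mem_upper hA) (hzc _ (hS (lsl_mem_upper hA))).symm
        rw [← h1, mul_inv_cancel_right])
    rw [hc, Subgroup.map_le_iff_le_comap]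
    exact key
  · cases b
    · exact hc ▸ Subgroup.map_mono (pointRad_le_upper hole)
    · exact hc ▸ Subgroup.map_mono hsiegel
  · intro x hx
    obtain ⟨g, rfl⟩ := hφs x
    cases b
    · obtain ⟨a, ha, hag⟩ := exists_of_comm_pointRad (o := o) (g := g) fun u hu =>
        hcomm (pointRad_le_upper hole hu) (Subgroup.mem_centralizer_iff.1 hx _
          (Subgroup.mem_map_of_mem φ hu)).symm
      refine ⟨_, hag, ?_⟩
      rw [map_mul, hcenter ha, one_mul]
    · obtain ⟨a, ha, B, hB, rfl⟩ := exists_of_comm_siegelRad (g := g) fun B hB =>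
        hcomm (unip_mem_upper hB) (Subgroup.mem_centralizer_iff.1 hx _
          (Subgroup.mem_map_of_mem φ ⟨B, hB, rfl⟩)).symm
      refine ⟨_, ⟨B, hB, rfl⟩, ?_⟩
      rw [map_mul, hcenter ha, one_mul]
  · intro x hx
    obtain ⟨g, rfl⟩ := hφs x
    have hnorm : ∀ u ∈ upper m F, g⁻¹ * u * g ∈ upper m F := by
      intro u hu
      obtain ⟨u', hu', h'⟩ : φ (g⁻¹ * u * g) ∈ (upper m F).map φ := by
        have h1 := (Subgroup.mem_normalizer_iff.1 (Subgroup.inv_mem _ hx) (φ u)).1 (hS hu)
        rw [inv_inv, ← map_inv, ← map_mul, ← map_mul] at h1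
        exact hc ▸ h1
      have hb := hconjpow (g := g⁻¹) hu
      rw [inv_inv] at hb
      rw [← hφeq hu' hb h']
      exact hu'
    obtain ⟨h21, hlt⟩ := blocks_of_normalizes hnorm
    obtain ⟨d, u, hu, rfl⟩ := exists_tor h21 hlt
    set X := (S : Subgroup (PSp m F)) ⊔
      ⨆ b, Subgroup.normalizer ((S : Subgroup (PSp m F)) : Set (PSp m F)) ⊓ pResidualNormalizer p (R b)
    rw [map_mul]
    refine X.mul_mem ?_ (Subgroup.mem_sup_left (hS hu))
    have hnormS : ∀ d : Fin m → Fˣ,
        φ (tor d) ∈ Subgroup.normalizer ((S : Subgroup (PSp m F)) : Set (PSp m F)) := by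
      have keyd : ∀ (d : Fin m → Fˣ), ∀ x ∈ (S : Subgroup (PSp m F)),
          φ (tor d) * x * (φ (tor d))⁻¹ ∈ (S : Subgroup (PSp m F)) := by
        intro d x hx
        obtain ⟨v, hv, rfl⟩ : x ∈ (upper m F).map φ := hc ▸ hx
        rw [← map_inv, ← map_mul, ← map_mul]
        exact hS (tor_conj_mem_upper d hv)
      intro d
      refine Subgroup.mem_normalizer_iff.2 fun x => ⟨keyd d x, fun hx => ?_⟩
      have h1 := keyd d⁻¹ _ hx
      rw [map_inv, map_inv] at h1
      simpa [mul_assoc] using h1
    have hres : ∀ (b : Bool) (g : Spg m F), (∀ u ∈ (if b then siegelRad m F else pointRad o), g * u * g⁻¹ ∈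
        (if b then siegelRad m F else pointRad o)) → (∀ u ∈ (if b then siegelRad m F else pointRad o),
        g⁻¹ * u * g⁻¹⁻¹ ∈ (if b then siegelRad m F else pointRad o)) → g ^ p = 1 →
        φ g ∈ pResidualNormalizer p (R b) := by
      intro b g h1 h2 hgp
      refine mem_pResidualNormalizer (Subgroup.mem_normalizer_iff.2 fun y => ?_) (n := 1)
        (by rw [pow_one, ← map_pow, hgp, map_one])
      have hR : R b = (if b then siegelRad m F else pointRad o).map φ := by cases b <;> rfl
      rw [hR]
      refine ⟨?_, ?_⟩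
      · rintro ⟨v, hv, rfl⟩
        exact ⟨_, h1 v hv, by rw [map_mul, map_mul, map_inv]⟩
      · rintro ⟨v, hv, hvy⟩
        refine ⟨_, h2 v hv, ?_⟩
        simp only [map_mul, map_inv, hvy, inv_inv]
        group
    -- the diagonal coroots
    have hlong : ∀ j, j ≠ o → ∀ a : Fˣ, φ (tor (Pi.mulSingle j a)) ∈ X := by
      intro j hj a
      refine Subgroup.mem_sup_right (Subgroup.mem_iSup_of_mem false ⟨hnormS _, ?_⟩)
      have hfp1 : ∀ x : F, FixesPair o (unip (single j j x) (single_transpose j x)).1 := fun x =>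
        fixesPair_of_blocks (fun c => ⟨rfl, rfl⟩) (fun c => by simp [single_apply, hj])
          (fun c => ⟨rfl, rfl⟩) (fun c => ⟨rfl, rfl⟩)
      have hfp2 : ∀ x : F, FixesPair o (lower (single j j x) (single_transpose j x)).1 := fun x =>
        fixesPair_of_blocks (fun c => ⟨rfl, rfl⟩) (fun c => ⟨rfl, rfl⟩)
          (fun c => by simp [single_apply, hj]) (fun c => ⟨rfl, rfl⟩)
      have hU : ∀ x : F, φ (unip (single j j x) (single_transpose j x)) ∈ pResidualNormalizer p (R false) := by
        intro x
        have hi : (unip (single j j x) (single_transpose j x))⁻¹ = unip (single j j (-x)) (single_transpose j _) := by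
          rw [unip_inv]; exact unip_congr (by rw [single_neg]) _ _
        refine hres false _ (fun u hu => conj_mem_pointRad (hfp1 x) ?_ hu)
          (fun u hu => conj_mem_pointRad ?_ ?_ hu) (unip_pow_p p _)
        · rw [hi]; exact hfp1 _
        · rw [hi]; exact hfp1 _
        · rw [inv_inv]; exact hfp1 x
      have hlmul : ∀ x y : F, lower (single j j x) (single_transpose j x) * lower (single j j y) (single_transpose j y) =
          lower (single j j (x + y)) (single_transpose j _) := fun x y => Subtype.ext (by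
        rw [sp_mul, lower_coe, lower_coe, lower_coe, fromBlocks_multiply]
        simp [single_add, add_comm])
      have hl0 : lower (single j j (0 : F)) (single_transpose j 0) = 1 := Subtype.ext (by
        rw [lower_coe, single_zero, fromBlocks_one, sp_one])
      have hL : ∀ x : F, φ (lower (single j j x) (single_transpose j x)) ∈ pResidualNormalizer p (R false) := by
        intro x
        have hi : (lower (single j j x) (single_transpose j x))⁻¹ = lower (single j j (-x)) (single_transpose j _) := by
          refine inv_eq_of_mul_eq_one_right ((hlmul _ _).trans ?_)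
          simp only [add_neg_cancel]
          exact hl0
        have hpow : ∀ n : ℕ, lower (single j j x) (single_transpose j x) ^ n =
            lower (single j j ((n : F) * x)) (single_transpose j _) := by
          intro n
          induction n with
          | zero => simp only [pow_zero, Nat.cast_zero, zero_mul]; exact hl0.symm
          | succ n ih => rw [pow_succ, ih, hlmul]; simp only [Nat.cast_succ, add_mul, one_mul]
        refine hres false _ (fun u hu => conj_mem_pointRad (hfp2 x) ?_ hu)
          (fun u hu => conj_mem_pointRad ?_ ?_ hu) (by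
            rw [hpow]; simp only [CharP.cast_eq_zero, zero_mul]; exact hl0)
        · rw [hi]; exact hfp2 _
        · rw [hi]; exact hfp2 _
        · rw [inv_inv]; exact hfp2 x
      rw [tor_mulSingle_eq]
      simp only [map_mul]
      exact mul_mem (mul_mem (mul_mem (hU _) (hL _)) (hU _)) (mul_mem (mul_mem (hU _) (hL _)) (hU _))
    have hshort : ∀ a : Fˣ, φ (tor (Pi.mulSingle o a * Pi.mulSingle e a⁻¹)) ∈ X := by
      intro a
      refine Subgroup.mem_sup_right (Subgroup.mem_iSup_of_mem true ⟨hnormS _, ?_⟩)
      rw [tor_pair_eq hoe, CfsgLib.Linear.diag2n_eq_prod_transvection hoe a.ne_zero]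
      have hT : ∀ {i j : Fin m} (h : i ≠ j) (x : F),
          φ (lsl (SpecialLinearGroup.transvection h x)) ∈ pResidualNormalizer p (R true) := by
        intro i j h x
        have hn : ∀ (A : SLg m F), ∀ u ∈ siegelRad m F, lsl A * u * (lsl A)⁻¹ ∈ siegelRad m F := by
          rintro A _ ⟨B, hB, rfl⟩
          rw [lsl_conj]
          exact ⟨_, _, rfl⟩
        refine hres true _ (hn _) (fun u hu => ?_) (by rw [← map_pow, transvection_pow_eq_one p h x, map_one])
        rw [← map_inv]
        exact hn _ u hu
      simp only [map_mul]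
      exact mul_mem (mul_mem (mul_mem (mul_mem (mul_mem (hT _ _) (hT _ _)) (hT _ _)) (hT _ _)) (hT _ _)) (hT _ _)
    have hall : ∀ j a, φ (tor (Pi.mulSingle j a)) ∈ X := by
      intro j a
      rcases eq_or_ne j o with rfl | hj
      · have h1 := X.mul_mem (hshort a) (hlong e hoe.symm a)
        rwa [← map_mul, ← map_mul, mul_assoc, ← Pi.mulSingle_mul, inv_mul_cancel, Pi.mulSingle_one, mul_one] at h1
      · exact hlong j hj a
    show φ (tor d) ∈ X
    rw [← Finset.univ_prod_mulSingle d]
    have hmem : (∏ i, Pi.mulSingle i (d i)) ∈ X.comap (φ.comp tor) :=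
      Subgroup.prod_mem _ fun i _ => hall i (d i)
    exact hmem

end CfsgLib.LieFusion.Symp
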