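import Cfsg.Agent.Lib.LieFusion.SympSylow

/-!
Identities between root elements of the symplectic group and centralizers of the two radicals.
-/
set_option autoImplicit false

namespace CfsgLib.LieFusion.Symp

open Matrix CfsgLib.AutPSL Cfsg

variable {m : ℕ} {F : Type*} [Field F]

/-- The symmetric matrix with entries `b` at `(i, j)` and `(j, i)`. -/
def hol (i j : Fin m) (b : F) : Matrix (Fin m) (Fin m) F := single i j b + single j i b

theorem hol_transpose (i j : Fin m) (b : F) : (hol i j b)ᵀ = hol i j b := by
  simp [hol, add_comm]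

theorem single_transpose (i : Fin m) (b : F) : (single i i b)ᵀ = single i i b := transpose_single i i b

/-- The Weyl element of the long root at `j`. -/
def weyl (j : Fin m) : Spg m F :=
  ⟨fromBlocks (1 - single j j 1) (-single j j 1) (single j j 1) (1 - single j j 1), by
    rw [SymplecticGroup.mem_iff, J, fromBlocks_transpose, fromBlocks_multiply, fromBlocks_multiply]
    simp [Matrix.sub_mul, Matrix.mul_sub]
    abel⟩

theorem weyl_conj {i j : Fin m} (hij : i ≠ j) (b : F) :
    weyl j * unip (hol i j b) (hol_transpose i j b) * (weyl j)⁻¹ =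
      lsl (SpecialLinearGroup.transvection hij (-b)) := by
  rw [mul_inv_eq_iff_eq_mul]
  refine Subtype.ext ?_
  rw [sp_mul, sp_mul, lsl_transvection_coe, unip_coe]
  show fromBlocks (1 - single j j 1) (-single j j 1) (single j j 1) (1 - single j j 1) * _ =
    _ * fromBlocks (1 - single j j 1) (-single j j 1) (single j j 1) (1 - single j j 1)
  rw [fromBlocks_multiply, fromBlocks_multiply, neg_neg]
  simp only [hol, fromBlocks_inj, Matrix.sub_mul, Matrix.mul_sub, Matrix.mul_add, Matrix.add_mul, Matrix.mul_one,
    Matrix.one_mul, Matrix.mul_zero, Matrix.zero_mul, Matrix.neg_mul, Matrix.mul_neg, add_zero, zero_add,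
    single_mul_single_same, mul_one, one_mul, single_mul_single_of_ne _ _ _ _ hij.symm,
    single_mul_single_of_ne _ _ _ _ hij, ← single_neg, neg_zero, sub_zero, mul_neg, neg_mul, mul_one, neg_neg,
    add_neg_cancel, sub_neg_eq_add]
  refine ⟨?_, ?_, ?_, ?_⟩
  · abel
  · abel
  · trivial
  · abel

theorem levi_transvection_single {i j : Fin m} (hij : i ≠ j) (c : F) :
    (1 + single i j c) * single j j (1 : F) * (1 + single i j c)ᵀ =
      hol i j c + single i i (c * c) + single j j 1 := by
  rw [transpose_add, transpose_one, transpose_single]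
  simp only [hol, Matrix.mul_add, Matrix.add_mul, Matrix.mul_one, Matrix.one_mul, single_mul_single_same, mul_one,
    one_mul]
  abel

theorem transvection_conj_single {i j : Fin m} (hij : i ≠ j) (c x : F) :
    (1 + single i j c) * single j j x * (1 + single i j c)ᵀ =
      hol i j (c * x) + single i i (c * c * x) + single j j x := by
  rw [transpose_add, transpose_one, transpose_single]
  simp only [hol, Matrix.mul_add, Matrix.add_mul, Matrix.mul_one, Matrix.one_mul, single_mul_single_same]
  rw [mul_comm x c, show c * x * c = c * c * x by ring]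
  abel

variable [Fintype F]

/-- The centralizer of the radical of the Siegel parabolic. -/
theorem exists_of_comm_siegelRad {g : Spg m F}
    (h : ∀ (B : Matrix (Fin m) (Fin m) F) (hB : Bᵀ = B), g * unip B hB = unip B hB * g) :
    ∃ (a : Fˣ), a * a = 1 ∧ ∃ (B : Matrix (Fin m) (Fin m) F) (hB : Bᵀ = B),
      g = tor (fun _ => a) * unip B hB := by
  classical
  set A := g.1.toBlocks₁₁ with hA
  set X := g.1.toBlocks₁₂ with hX
  set C := g.1.toBlocks₂₁ with hC
  set D := g.1.toBlocks₂₂ with hD
  have hg : g.1 = fromBlocks A X C D := (fromBlocks_toBlocks g.1).symm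
  have hcomm : ∀ (B : Matrix (Fin m) (Fin m) F) (hB : Bᵀ = B), B * C = 0 ∧ A * B = B * D := by
    intro B hB
    have h1 := congrArg Subtype.val (h B hB)
    rw [sp_mul, sp_mul, unip_coe, hg, fromBlocks_multiply, fromBlocks_multiply, fromBlocks_inj] at h1
    obtain ⟨h11, h12, -, -⟩ := h1
    simp only [Matrix.mul_one, Matrix.one_mul, Matrix.mul_zero, add_zero] at h11 h12
    exact ⟨left_eq_add.1 h11, add_right_cancel (h12.trans (add_comm _ _))⟩
  have hC0 : C = 0 := by
    have := (hcomm 1 transpose_one).1
    rwa [Matrix.one_mul] at this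
  have hAD : A = D := by
    have := (hcomm 1 transpose_one).2
    rwa [Matrix.one_mul, Matrix.mul_one] at this
  have hoff : ∀ r i, r ≠ i → A r i = 0 := by
    intro r i hri
    have h1 := congrFun (congrFun (hcomm (single i i 1) (single_transpose i 1)).2 r) i
    rwa [mul_single_apply_same, single_mul_apply_of_ne (h := hri), mul_one] at h1
  have hdiag : ∀ i j, A i i = A j j := by
    intro i j
    rcases eq_or_ne i j with rfl | hij
    · rfl
    have h1 := congrFun (congrFun (hcomm (hol i j 1) (hol_transpose i j 1)).2 i) j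
    rw [← hAD, hol, Matrix.mul_add, Matrix.add_mul, Matrix.add_apply, Matrix.add_apply, mul_single_apply_same,
      mul_single_apply_of_ne (hbj := hij.symm), single_mul_apply_same, single_mul_apply_of_ne (h := hij)] at h1
    simpa using h1
  have h21 : ∀ i j, g.1 (.inr i) (.inl j) = 0 := fun i j => congrFun (congrFun hC0 i) j
  obtain ⟨hADt, B, hB, he⟩ := exists_factor h21
  rcases isEmpty_or_nonempty (Fin m) with hm | hm
  · exact ⟨1, one_mul 1, B, hB, Subtype.ext (Matrix.ext fun b => b.rec (fun i => isEmptyElim i) fun i => isEmptyElim i)⟩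
  set o := hm.some
  have hAd : A = diagonal fun _ => A o o := Matrix.ext fun r i => by
    rcases eq_or_ne r i with rfl | hri
    · rw [diagonal_apply_eq]; exact hdiag _ _
    · rw [diagonal_apply_ne _ hri]; exact hoff r i hri
  have hsq : A o o * A o o = 1 := by
    have := congrFun (congrFun (show A * Dᵀ = 1 from hADt) o) o
    rwa [← hAD, hAd, diagonal_transpose, diagonal_mul_diagonal, diagonal_apply_eq, one_apply_eq] at this
  let a : Fˣ := ⟨A o o, A o o, hsq, hsq⟩
  have ha : a * a = 1 := Units.ext hsq
  refine ⟨a, ha, B, hB, ?_⟩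
  rw [(Subgroup.mem_center_iff.1 (tor_const_mem_center ha) (unip B hB)).symm]
  refine he.trans (congrArg (unip B hB * ·) (Subtype.ext ?_))
  rw [levi_coe, tor_coe, inv_eq_of_mul_eq_one_right ha]
  exact congrArg₂ (fun P Q => fromBlocks P 0 0 Q) hAd (hAD.symm.trans hAd)

omit [Fintype F] in
theorem unip_single_coe (i j : Fin m) (c : F) :
    fromBlocks (0 : Matrix (Fin m) (Fin m) F) (single i j c) 0 0 =
      (single (Sum.inl i) (Sum.inr j) c : Matrix (Fin m ⊕ Fin m) (Fin m ⊕ Fin m) F) := by
  ext a b
  rcases a with a | a <;> rcases b with b | b <;> simp [single_apply]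

theorem single_mem_pointRad (o : Fin m) : unip (single o o (1 : F)) (single_transpose o 1) ∈ pointRad o := by
  intro a b hab
  rw [unip_coe]
  rcases a with a | a <;> rcases b with b | b <;> simp [one_apply, single_apply] at hab ⊢
  intro h1 h2
  exact hab.1 h1.symm

theorem hol_mem_pointRad (o j : Fin m) : unip (hol o j (1 : F)) (hol_transpose o j 1) ∈ pointRad o := by
  intro a b hab
  rw [unip_coe]
  rcases a with a | a <;> rcases b with b | b <;> simp [one_apply, hol, single_apply] at hab ⊢
  obtain ⟨h1, h2⟩ := hab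
  rw [if_neg (fun h => h1 h.1.symm), if_neg (fun h => h2 h.2.symm), add_zero]

theorem transvection_mem_pointRad {o j : Fin m} (h : o ≠ j) :
    lsl (SpecialLinearGroup.transvection h (1 : F)) ∈ pointRad o := by
  intro a b hab
  rw [lsl_transvection_coe]
  rcases a with a | a <;> rcases b with b | b <;> simp [one_apply, single_apply] at hab ⊢
  · rintro h1 h2
    rcases hab with h3 | h3
    · exact h3 h1.symm
    · exact h (h3.symm.trans h2.symm)
  · rintro h1 h2
    rcases hab with h3 | h3
    · exact h3 h2.symm
    · exact h (h3.symm.trans h1.symm)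

/-- The centralizer of the radical of a point stabilizer. -/
theorem exists_of_comm_pointRad {o : Fin m} {g : Spg m F} (h : ∀ u ∈ pointRad o, g * u = u * g) :
    ∃ a : Fˣ, a * a = 1 ∧ tor (fun _ => a) * g ∈ pointRad o := by
  classical
  set lam := g.1 (.inl o) (.inl o)
  have hN : ∀ u ∈ pointRad o, g.1 * (u.1 - 1) = (u.1 - 1) * g.1 := fun u hu => by
    rw [Matrix.mul_sub, Matrix.sub_mul, Matrix.mul_one, Matrix.one_mul]
    exact congrArg (· - g.1) (congrArg Subtype.val (h u hu))
  have eA := hN _ (single_mem_pointRad o)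
  rw [unip_coe, ← fromBlocks_one, sub_eq_add_neg, fromBlocks_neg, fromBlocks_add] at eA
  simp only [neg_zero, add_neg_cancel, add_zero, unip_single_coe] at eA
  have hcol : ∀ a, a ≠ .inl o → g.1 a (.inl o) = 0 := fun a ha => by
    have := congrFun (congrFun eA a) (.inr o)
    rwa [mul_single_apply_same, single_mul_apply_of_ne (h := ha), mul_one] at this
  have hrow : ∀ b, b ≠ .inr o → g.1 (.inr o) b = 0 := fun b hb => by
    have := congrFun (congrFun eA (.inl o)) b
    rw [mul_single_apply_of_ne (hbj := hb), single_mul_apply_same, one_mul] at this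
    exact this.symm
  have hroo : g.1 (.inr o) (.inr o) = lam := by
    have := congrFun (congrFun eA (.inl o)) (.inr o)
    rw [mul_single_apply_same, single_mul_apply_same, one_mul, mul_one] at this
    exact this.symm
  have hlj : ∀ j, j ≠ o → ∀ a, a ≠ .inl o → g.1 a (.inl j) = if a = .inl j then lam else 0 := by
    intro j hj a ha
    have eB := hN _ (hol_mem_pointRad o j)
    rw [unip_coe, ← fromBlocks_one, sub_eq_add_neg, fromBlocks_neg, fromBlocks_add] at eB
    simp only [neg_zero, add_neg_cancel, add_zero, hol] at eB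
    have e : fromBlocks (0 : Matrix (Fin m) (Fin m) F) (single o j (1 : F) + single j o 1) (0 : Matrix (Fin m) (Fin m) F) 0 =
        fromBlocks 0 (single o j 1) 0 0 + fromBlocks 0 (single j o 1) 0 0 := by simp [fromBlocks_add]
    rw [e, unip_single_coe, unip_single_coe,
      Matrix.mul_add, Matrix.add_mul] at eB
    have := congrFun (congrFun eB a) (.inr o)
    rw [Matrix.add_apply, Matrix.add_apply, mul_single_apply_of_ne (hbj := fun e => hj (Sum.inr.inj e).symm),
      mul_single_apply_same, single_mul_apply_of_ne (h := ha), zero_add, zero_add, mul_one] at this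
    rw [this]
    split_ifs with hc
    · subst hc; rw [single_mul_apply_same, one_mul, hroo]
    · rw [single_mul_apply_of_ne (h := hc)]
  have hrj : ∀ j, j ≠ o → ∀ a, a ≠ .inl o → g.1 a (.inr j) = if a = .inr j then lam else 0 := by
    intro j hj a ha
    have eC := hN _ (transvection_mem_pointRad hj.symm)
    have e : (fromBlocks (1 + single o j (1 : F)) 0 0 (1 + single j o (-1))) - 1 =
        single (Sum.inl o) (Sum.inl j) (1 : F) + single (Sum.inr j) (Sum.inr o) (-1) := by
      ext b c
      rcases b with b | b <;> rcases c with c | c <;> simp [one_apply, single_apply]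
    rw [lsl_transvection_coe, e, Matrix.mul_add, Matrix.add_mul] at eC
    have := congrFun (congrFun eC a) (.inr o)
    rw [Matrix.add_apply, Matrix.add_apply, mul_single_apply_of_ne (hbj := Sum.inr_ne_inl),
      mul_single_apply_same, single_mul_apply_of_ne (h := ha), zero_add, zero_add, mul_neg, mul_one] at this
    rw [← neg_inj, this]
    split_ifs with hc
    · subst hc; rw [single_mul_apply_same, neg_one_mul, hroo]
    · rw [single_mul_apply_of_ne (h := hc), neg_zero]
  have hsq : lam * lam = 1 := by
    have h1 := congrFun (congrFun (SymplecticGroup.mem_iff.1 g.2) (.inr o)) (.inl o)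
    rw [J, Matrix.mul_apply, Finset.sum_eq_single (.inl o) (fun b _ hb => ?_) (by simp), transpose_apply,
      Matrix.mul_apply, Finset.sum_eq_single (.inr o) (fun c _ hc => ?_) (by simp), hroo] at h1
    · simpa using h1
    · rw [hrow c hc, zero_mul]
    · rw [Matrix.mul_apply, Finset.sum_eq_single (.inr o) (fun c _ hc => by rw [hrow c hc, zero_mul]) (by simp)]
      rcases b with b | b
      · simp [one_apply, show o ≠ b from fun e => hb (e ▸ rfl)]
      · simp
  let a : Fˣ := ⟨lam, lam, hsq, hsq⟩
  have ha : a * a = 1 := Units.ext hsq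
  refine ⟨a, ha, fun r c hrc => ?_⟩
  rw [sp_mul, tor_coe', inv_eq_of_mul_eq_one_right ha, Matrix.diagonal_mul,
    show Sum.elim (fun _ : Fin m => (a : F)) (fun _ : Fin m => (a : F)) r = lam by cases r <;> rfl]
  rcases eq_or_ne r (.inr o) with rfl | hr
  · rcases eq_or_ne c (.inr o) with rfl | hc
    · rw [hroo, hsq, one_apply_eq]
    · rw [hrow c hc, mul_zero, one_apply_ne hc.symm]
  rcases eq_or_ne c (.inl o) with rfl | hc
  · rcases eq_or_ne r (.inl o) with rfl | hr'
    · rw [show g.1 (.inl o) (.inl o) = lam from rfl, hsq, one_apply_eq]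
    · rw [hcol r hr', mul_zero, one_apply_ne hr']
  obtain ⟨hr', hc'⟩ := hrc.resolve_right (not_or.2 ⟨hc, hr⟩)
  rw [one_apply]
  rcases c with j | j
  · rw [hlj j (fun e => hc (by rw [e])) r hr', mul_ite, mul_zero, hsq]
  · rw [hrj j (fun e => hc' (by rw [e])) r hr', mul_ite, mul_zero, hsq]

omit [Fintype F] in
theorem fixesPair_of_blocks {o : Fin m} {A B C D : Matrix (Fin m) (Fin m) F}
    (hA : ∀ c, A o c = (1 : Matrix (Fin m) (Fin m) F) o c ∧ A c o = (1 : Matrix (Fin m) (Fin m) F) c o)
    (hB : ∀ c, B o c = 0 ∧ B c o = 0) (hC : ∀ c, C o c = 0 ∧ C c o = 0)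
    (hD : ∀ c, D o c = (1 : Matrix (Fin m) (Fin m) F) o c ∧ D c o = (1 : Matrix (Fin m) (Fin m) F) c o) :
    FixesPair o (fromBlocks A B C D) := by
  rintro (c | c)
  · exact ⟨⟨by simp [(hA c).1, one_apply], by simp [(hA c).2, one_apply]⟩,
      by simp [(hC c).1], by simp [(hB c).2]⟩
  · exact ⟨⟨by simp [(hB c).1], by simp [(hC c).2]⟩,
      by simp [(hD c).1, one_apply], by simp [(hD c).2, one_apply]⟩

end CfsgLib.LieFusion.Symp
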